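import Groth.Prelude.Def_W4c6gradedringsgwSect

/-!
# Symmetric numerical semigroups

A numerical semigroup is symmetric exactly when, for a nonzero element `h`, a single element of it
is a socle monomial modulo `h`.
-/

set_option autoImplicit false

namespace Groth.Agent.MiscTwoH99.GorSect

variable {H : Set ℕ}

/-- Membership of an integer. -/
def Mem (H : Set ℕ) (z : ℤ) : Prop := ∃ h ∈ H, (h : ℤ) = z

theorem mem_natCast {n : ℕ} : Mem H (n : ℤ) ↔ n ∈ H :=
  ⟨fun ⟨h, hh, e⟩ => by rwa [Nat.cast_inj.mp e] at hh, fun hn => ⟨n, hn, rfl⟩⟩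

theorem Mem.nonneg {z : ℤ} (hz : Mem H z) : 0 ≤ z := by
  obtain ⟨n, -, rfl⟩ := hz
  exact Int.natCast_nonneg n

theorem Mem.toNat {z : ℤ} (hz : Mem H z) : z.toNat ∈ H := by
  obtain ⟨n, hn, rfl⟩ := hz
  rwa [Int.toNat_natCast]

/-- The monomials of `k[H]` killed by the irrelevant ideal modulo the monomial `h`. -/
def socleSet (H : Set ℕ) (h : ℕ) : Set ℕ :=
  {n | n ∈ H ∧ ¬ Mem H ((n : ℤ) - h) ∧ ∀ e ∈ H, e ≠ 0 → Mem H ((n : ℤ) + e - h)}

theorem exists_frobenius (hcof : ∃ c, ∀ n, c ≤ n → n ∈ H) (h1 : 1 ∉ H) :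
    ∃ F : ℕ, 1 ≤ F ∧ ¬ Mem H (F : ℤ) ∧ ∀ z : ℤ, (F : ℤ) < z → Mem H z := by
  classical
  obtain ⟨c, hc⟩ := hcof
  have hc1 : 1 < c := by
    by_contra h
    exact h1 (hc 1 (by omega))
  let s := (Finset.range c).filter fun n => n ∉ H
  have hs : s.Nonempty := ⟨1, by simp [s, h1, hc1]⟩
  have hmem := Finset.mem_filter.mp (s.max'_mem hs)
  refine ⟨s.max' hs, s.le_max' 1 (by simp [s, h1, hc1]), fun h => hmem.2 (mem_natCast.mp h), fun z hz => ?_⟩
  refine ⟨z.toNat, ?_, Int.toNat_of_nonneg (by omega)⟩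
  by_contra h
  have hlt : z.toNat < c := by
    by_contra h'
    exact h (hc _ (by omega))
  have := s.le_max' z.toNat (Finset.mem_filter.mpr ⟨Finset.mem_range.mpr hlt, h⟩)
  omega

theorem add_mem_socleSet (hadd : ∀ a ∈ H, ∀ b ∈ H, a + b ∈ H) {h : ℕ} {F : ℕ} (hF : ¬ Mem H (F : ℤ))
    (hlt : ∀ z : ℤ, (F : ℤ) < z → Mem H z) (hh : h ≠ 0) : F + h ∈ socleSet H h := by
  refine ⟨mem_natCast.mp (hlt _ (by omega)), ?_, fun e _ he0 => hlt _ (by omega)⟩
  rwa [show ((F + h : ℕ) : ℤ) - h = F by push_cast; ring]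

theorem socleSet_nonempty (hadd : ∀ a ∈ H, ∀ b ∈ H, a + b ∈ H) (hcof : ∃ c, ∀ n, c ≤ n → n ∈ H) (h1 : 1 ∉ H)
    {h : ℕ} (hh : h ≠ 0) : (socleSet H h).Nonempty := by
  obtain ⟨F, -, hF, hlt⟩ := exists_frobenius hcof h1
  exact ⟨_, add_mem_socleSet hadd hF hlt hh⟩

theorem isSymmetric_iff (h0 : 0 ∈ H) (hadd : ∀ a ∈ H, ∀ b ∈ H, a + b ∈ H)
    (hcof : ∃ c, ∀ n, c ≤ n → n ∈ H) (h1 : 1 ∉ H) {h : ℕ} (hh : h ∈ H) (hh0 : h ≠ 0) :
    W4c6gradedringsgw.IsSymmetric H ↔ (socleSet H h).Subsingleton := by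
  obtain ⟨F, hF1, hF, hlt⟩ := exists_frobenius hcof h1
  have addMem : ∀ {a b : ℤ}, Mem H a → Mem H b → Mem H (a + b) := fun {a b} ha hb => by
    obtain ⟨a, ha, rfl⟩ := ha
    obtain ⟨b, hb, rfl⟩ := hb
    exact ⟨a + b, hadd a ha b hb, by push_cast; rfl⟩
  constructor
  · rintro ⟨d, hd⟩
    change ∀ n : ℤ, Mem H n ↔ ¬ Mem H (d - n) at hd
    have hdF : d = F := by
      refine le_antisymm ?_ ?_
      · by_contra h
        exact (hd d).mp (hlt d (by omega)) ⟨0, h0, by simp⟩
      · by_contra h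
        have h2 : ¬ Mem H (d - F) := fun hm => absurd hm.nonneg (by omega)
        exact hF ((hd F).mpr h2)
    subst hdF
    have key : ∀ n ∈ socleSet H h, (n : ℤ) = F + h := fun n ⟨_, hn, hne⟩ => by
      by_contra hne'
      have h3 : Mem H ((F : ℤ) - (n - h)) := not_not.mp (mt (hd _).mpr hn)
      obtain ⟨e, he, hee⟩ := h3
      have he0 : e ≠ 0 := by omega
      refine hF ?_
      have h4 := hne e he he0
      rwa [show (n : ℤ) + e - h = F by omega] at h4
    intro a ha b hb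
    have := key a ha
    have := key b hb
    omega
  · intro hS
    refine ⟨F, fun n => ?_⟩
    change Mem H n ↔ ¬ Mem H ((F : ℤ) - n)
    refine ⟨fun hn hn' => hF (by rw [show (F : ℤ) = n + (F - n) by ring]; exact addMem hn hn'), fun hn => ?_⟩
    by_contra hnot
    refine hn ?_
    -- induction on `F - n`
    obtain ⟨j, hj⟩ : ∃ j : ℕ, (j : ℤ) = F - n := by
      refine ⟨((F : ℤ) - n).toNat, Int.toNat_of_nonneg ?_⟩
      by_contra h
      exact hnot (hlt n (by omega))
    clear hn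
    induction j using Nat.strong_induction_on generalizing n with
    | _ j ih =>
      rcases lt_or_ge n 0 with hneg | hpos
      · exact hlt _ (by omega)
      by_cases hall : ∀ e ∈ H, e ≠ 0 → Mem H (n + e)
      · have hnS : n.toNat + h ∈ socleSet H h := by
          refine ⟨?_, ?_, fun e he he0 => ?_⟩
          · have h5 := hall h hh hh0
            rw [← mem_natCast]
            push_cast
            rwa [Int.toNat_of_nonneg hpos]
          · push_cast
            rwa [Int.toNat_of_nonneg hpos, add_sub_cancel_right]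
          · push_cast
            rw [Int.toNat_of_nonneg hpos, show n + h + e - h = n + e by ring]
            exact hall e he he0
        have := hS hnS (add_mem_socleSet hadd hF hlt hh0)
        refine ⟨0, h0, ?_⟩
        omega
      · push Not at hall
        obtain ⟨e, he, he0, hne⟩ := hall
        have hle : n + e ≤ F := by
          by_contra h
          exact hne (hlt _ (by omega))
        have h6 : Mem H ((F : ℤ) - (n + e)) :=
          ih ((F : ℤ) - (n + e)).toNat (by omega) (n + e) hne (Int.toNat_of_nonneg (by omega))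
        rw [show (F : ℤ) - n = (F - (n + e)) + e by ring]
        exact addMem h6 ⟨e, he, rfl⟩

end Groth.Agent.MiscTwoH99.GorSect
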