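import Groth.Agent.LC.GorFlat
import Groth.Agent.MiscTwoH99.GorSect.Semigroup
import Mathlib.RingTheory.Localization.AtPrime.Basic
import Mathlib.Algebra.Polynomial.Basic

/-!
# The Gorenstein property of a deformation of a semigroup ring at the origin
-/

set_option autoImplicit false

universe u

open IsLocalRing Polynomial

namespace Groth.Agent.MiscTwoH99.GorSect

/-- A ring `R` with a map onto a semigroup ring `k[H]` whose kernel is generated by `t`. -/
structure Deform (k : Type u) [Field k] (R : Type u) [CommRing R] [Algebra k R] where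
  ψ : R →ₐ[k] k[X]
  H : Set ℕ
  h0 : 0 ∈ H
  hadd : ∀ a ∈ H, ∀ b ∈ H, a + b ∈ H
  hcof : ∃ c, ∀ n, c ≤ n → n ∈ H
  h1 : 1 ∉ H
  t : R
  ht : t ≠ 0
  hker : RingHom.ker ψ = Ideal.span {t}
  hsupp : ∀ r n, (ψ r).coeff n ≠ 0 → n ∈ H
  hlift : ∀ n ∈ H, ∃ r, ψ r = X ^ n

namespace Deform

variable {k : Type u} [Field k] {R : Type u} [CommRing R] [Algebra k R] (D : Deform k R)

theorem X_pow_pred {n : ℕ} (hn : n ∈ D.H) : ∃ r, D.ψ r = X ^ n := D.hlift n hn

/-- A lift of a monomial. -/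
noncomputable def ρ (n : ℕ) : R :=
  open Classical in if hn : n ∈ D.H then Classical.choose (D.hlift n hn) else 0

theorem ψ_ρ {n : ℕ} (hn : n ∈ D.H) : D.ψ (D.ρ n) = X ^ n := by
  rw [ρ, dif_pos hn]
  exact Classical.choose_spec (D.hlift n hn)

/-- The maximal ideal at the origin. -/
noncomputable abbrev m : Ideal R := RingHom.ker (Polynomial.constantCoeff.comp D.ψ.toRingHom)

theorem mem_m {r : R} : r ∈ D.m ↔ (D.ψ r).coeff 0 = 0 := Iff.rfl

theorem isMaximal_m : D.m.IsMaximal :=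
  RingHom.ker_isMaximal_of_surjective _ fun c => ⟨algebraMap k R c, by
    show (D.ψ (algebraMap k R c)).coeff 0 = c
    rw [AlgHom.commutes]
    simp⟩

theorem t_mem_m : D.t ∈ D.m := by
  have h : D.t ∈ RingHom.ker D.ψ := D.hker ▸ Ideal.mem_span_singleton_self _
  rw [mem_m, RingHom.mem_ker.mp h, coeff_zero]

theorem ρ_mem_m {n : ℕ} (hn : n ∈ D.H) (hn0 : n ≠ 0) : D.ρ n ∈ D.m := by
  rw [mem_m, D.ψ_ρ hn, coeff_X_pow, if_neg (Ne.symm hn0)]

theorem coeff_mul_ρ (c : R) {n : ℕ} (hn : n ∈ D.H) (i : ℕ) :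
    (D.ψ (c * D.ρ n)).coeff i = if n ≤ i then (D.ψ c).coeff (i - n) else 0 := by
  rw [map_mul, D.ψ_ρ hn, coeff_mul_X_pow']

variable (h : ℕ) (hh : h ∈ D.H)

/-- The ideal of the two parameters. -/
noncomputable abbrev J : Ideal R := Ideal.span {D.t, D.ρ h}

include hh in
theorem mem_J {r : R} : r ∈ D.J h ↔ ∀ n, (D.ψ r).coeff n ≠ 0 → Mem D.H ((n : ℤ) - h) := by
  constructor
  · intro hr n hn
    obtain ⟨a, b, rfl⟩ := Ideal.mem_span_pair.mp hr
    have ht : D.ψ D.t = 0 := RingHom.mem_ker.mp (D.hker ▸ Ideal.mem_span_singleton_self _)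
    rw [map_add, map_mul, ht, mul_zero, zero_add, D.coeff_mul_ρ b hh] at hn
    split_ifs at hn with hle
    · exact ⟨n - h, D.hsupp _ _ hn, by omega⟩
    · exact absurd rfl hn
  · intro hr
    let q := ∑ n ∈ (D.ψ r).support, algebraMap k R ((D.ψ r).coeff n) * D.ρ (n - h)
    have hq : D.ψ (r - q * D.ρ h) = 0 := by
      rw [map_sub, map_mul, D.ψ_ρ hh, map_sum, Finset.sum_mul, sub_eq_zero]
      conv_lhs => rw [(D.ψ r).as_sum_support_C_mul_X_pow]
      refine Finset.sum_congr rfl fun n hn => ?_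
      have hm := hr n (mem_support_iff.mp hn)
      have hle : h ≤ n := by have := hm.nonneg; omega
      have hnh : n - h ∈ D.H := mem_natCast.mp (by rwa [Nat.cast_sub hle])
      rw [map_mul, AlgHom.commutes, D.ψ_ρ hnh, mul_assoc, ← pow_add, Nat.sub_add_cancel hle]
      rfl
    rw [← RingHom.mem_ker, D.hker, Ideal.mem_span_singleton'] at hq
    obtain ⟨a, ha⟩ := hq
    exact Ideal.mem_span_pair.mpr ⟨a, q, by rw [ha]; ring⟩

theorem coeff_eq_zero_of_mem_pow {N : ℕ} {r : R} (hr : r ∈ D.m ^ N) {i : ℕ} (hi : i < N) :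
    (D.ψ r).coeff i = 0 := by
  have hle : D.m.map D.ψ.toRingHom ≤ Ideal.span {(X : k[X])} := Ideal.map_le_iff_le_comap.mpr fun x hx => by
    rw [Ideal.mem_comap, Ideal.mem_span_singleton]
    exact X_dvd_iff.mpr hx
  have h1 : D.ψ r ∈ Ideal.span {(X : k[X]) ^ N} := by
    rw [← Ideal.span_singleton_pow]
    exact Ideal.pow_right_mono hle N (Ideal.map_pow D.ψ.toRingHom D.m N ▸ Ideal.mem_map_of_mem _ hr)
  exact X_pow_dvd_iff.mp (Ideal.mem_span_singleton.mp h1) i hi

include hh in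
theorem exists_pow_le : ∃ N, D.m ^ N ≤ D.J h := by
  obtain ⟨c, hc⟩ := D.hcof
  refine ⟨h + c, fun r hr => (D.mem_J h hh).mpr fun n hn => ?_⟩
  have hle : h + c ≤ n := not_lt.mp fun hlt => hn (D.coeff_eq_zero_of_mem_pow hr hlt)
  exact ⟨n - h, hc _ (by omega), by omega⟩

variable (hh0 : h ≠ 0)

include hh hh0 in
theorem J_le_m : D.J h ≤ D.m := by
  rw [Ideal.span_le, Set.pair_subset_iff]
  exact ⟨D.t_mem_m, D.ρ_mem_m hh hh0⟩

include hh hh0 in
theorem isLocalRing_quotient : IsLocalRing (R ⧸ D.J h) := by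
  haveI := D.isMaximal_m
  refine IsLocalRing.of_unique_max_ideal ⟨D.m.map (Ideal.Quotient.mk _),
    (Ideal.map_eq_top_or_isMaximal_of_surjective _ Ideal.Quotient.mk_surjective inferInstance).resolve_left ?_,
    fun M hM => ?_⟩
  · intro htop
    have h1 := congrArg (Ideal.comap (Ideal.Quotient.mk (D.J h))) htop
    rw [Ideal.comap_map_quotientMk, sup_eq_right.mpr (D.J_le_m h hh hh0), Ideal.comap_top] at h1
    exact D.isMaximal_m.ne_top h1
  · obtain ⟨N, hN⟩ := D.exists_pow_le h hh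
    have hp : (M.comap (Ideal.Quotient.mk (D.J h))).IsPrime := Ideal.IsPrime.comap _
    have hle : D.m ≤ M.comap (Ideal.Quotient.mk (D.J h)) := fun x hx =>
      hp.mem_of_pow_mem N (by
        rw [Ideal.mem_comap, Ideal.Quotient.eq_zero_iff_mem.mpr (hN (Ideal.pow_mem_pow hx N))]
        exact M.zero_mem)
    exact (Ideal.map_comap_of_surjective _ Ideal.Quotient.mk_surjective M).symm.trans
      (congrArg _ (D.isMaximal_m.eq_of_le hp.ne_top hle).symm)

include hh hh0 in
theorem mem_maximalIdeal_quotient [IsLocalRing (R ⧸ D.J h)] (r : R) :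
    Ideal.Quotient.mk (D.J h) r ∈ maximalIdeal (R ⧸ D.J h) ↔ r ∈ D.m := by
  haveI := D.isMaximal_m
  have h1 : (maximalIdeal (R ⧸ D.J h)).comap (Ideal.Quotient.mk (D.J h)) = D.m := by
    have hmax := Ideal.comap_isMaximal_of_surjective (Ideal.Quotient.mk (D.J h)) Ideal.Quotient.mk_surjective
      (K := maximalIdeal (R ⧸ D.J h))
    refine (D.isMaximal_m.eq_of_le hmax.ne_top fun x hx => ?_).symm
    obtain ⟨N, hN⟩ := D.exists_pow_le h hh
    exact hmax.isPrime.mem_of_pow_mem N (by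
      rw [Ideal.mem_comap, Ideal.Quotient.eq_zero_iff_mem.mpr (hN (Ideal.pow_mem_pow hx N))]
      exact zero_mem _)
  rw [← h1, Ideal.mem_comap]

variable [IsNoetherianRing R]

include hh hh0 in
theorem gorenstein_quotient_iff [IsLocalRing (R ⧸ D.J h)] :
    LocCoh.IsGorensteinLocalRing (R ⧸ D.J h) ↔ (socleSet D.H h).Subsingleton := by
  -- the socle
  have hkill : ∀ n ∈ socleSet D.H h, ∀ r ∈ maximalIdeal (R ⧸ D.J h), r * Ideal.Quotient.mk _ (D.ρ n) = 0 := by
    intro n hn r hr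
    obtain ⟨r, rfl⟩ := Ideal.Quotient.mk_surjective r
    rw [D.mem_maximalIdeal_quotient h hh hh0, mem_m] at hr
    rw [← map_mul, Ideal.Quotient.eq_zero_iff_mem, D.mem_J h hh]
    intro i hi
    rw [D.coeff_mul_ρ r hn.1] at hi
    split_ifs at hi with hle
    · have he0 : i - n ≠ 0 := fun h0 => hi (h0 ▸ hr)
      have := hn.2.2 _ (D.hsupp _ _ hi) he0
      rwa [show (i : ℤ) - h = n + ((i - n : ℕ) : ℤ) - h by omega]
    · exact absurd rfl hi
  have hne : ∀ n ∈ socleSet D.H h, Ideal.Quotient.mk (D.J h) (D.ρ n) ≠ 0 := by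
    intro n hn h0
    rw [Ideal.Quotient.eq_zero_iff_mem, D.mem_J h hh] at h0
    exact hn.2.1 (h0 n (by rw [D.ψ_ρ hn.1, coeff_X_pow, if_pos rfl]; exact one_ne_zero))
  constructor
  · intro hG n₁ hn₁ n₂ hn₂
    by_contra hne'
    obtain ⟨c, hc⟩ := (Groth.Agent.LC.socle_of_gorenstein (hne n₁ hn₁) (hkill n₁ hn₁)).2 _ (hkill n₂ hn₂)
    obtain ⟨c, rfl⟩ := Ideal.Quotient.mk_surjective c
    rw [← map_mul, Ideal.Quotient.mk_eq_mk_iff_sub_mem, D.mem_J h hh] at hc
    refine hn₂.2.1 (hc n₂ ?_)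
    rw [map_sub, coeff_sub, D.ψ_ρ hn₂.1, coeff_X_pow, if_pos rfl, D.coeff_mul_ρ c hn₁.1]
    split_ifs with hle
    · by_cases hz : (D.ψ c).coeff (n₂ - n₁) = 0
      · rw [hz, sub_zero]; exact one_ne_zero
      · have he0 : n₂ - n₁ ≠ 0 := by omega
        have := hn₁.2.2 _ (D.hsupp _ _ hz) he0
        rw [show (n₁ : ℤ) + ((n₂ - n₁ : ℕ) : ℤ) - h = n₂ - h by omega] at this
        exact absurd this hn₂.2.1
    · rw [sub_zero]; exact one_ne_zero
  · intro hS
    obtain ⟨n₀, hn₀⟩ := socleSet_nonempty D.hadd D.hcof D.h1 hh0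
    have hnil : IsNilpotent (maximalIdeal (R ⧸ D.J h)) := by
      obtain ⟨N, hN⟩ := D.exists_pow_le h hh
      have hm : maximalIdeal (R ⧸ D.J h) = D.m.map (Ideal.Quotient.mk (D.J h)) := by
        ext x
        obtain ⟨x, rfl⟩ := Ideal.Quotient.mk_surjective x
        rw [D.mem_maximalIdeal_quotient h hh hh0, ← Ideal.mem_comap, Ideal.comap_map_quotientMk,
          sup_eq_right.mpr (D.J_le_m h hh hh0)]
      refine ⟨N, ?_⟩
      rw [hm, ← Ideal.map_pow, Ideal.zero_eq_bot, Ideal.map_eq_bot_iff_le_ker, Ideal.mk_ker]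
      exact hN
    refine Groth.Agent.LC.gorenstein_of_socle hnil (hne n₀ hn₀) (hkill n₀ hn₀) fun q hq => ?_
    obtain ⟨r, rfl⟩ := Ideal.Quotient.mk_surjective q
    refine ⟨Ideal.Quotient.mk _ (algebraMap k R ((D.ψ r).coeff n₀)), ?_⟩
    rw [← map_mul, Ideal.Quotient.mk_eq_mk_iff_sub_mem, D.mem_J h hh]
    intro i hi
    rw [map_sub, coeff_sub, map_mul, AlgHom.commutes, D.ψ_ρ hn₀.1] at hi
    by_cases hin : i = n₀
    · subst hin
      simp at hi
    have hi' : (D.ψ r).coeff i ≠ 0 := by simpa [coeff_X_pow, hin] using hi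
    by_contra hnot
    refine hin (hS ⟨D.hsupp _ _ hi', hnot, fun e he he0 => ?_⟩ hn₀)
    have h2 := hq (Ideal.Quotient.mk _ (D.ρ e)) ((D.mem_maximalIdeal_quotient h hh hh0 _).mpr (D.ρ_mem_m he he0))
    rw [← map_mul, Ideal.Quotient.eq_zero_iff_mem, D.mem_J h hh] at h2
    have h3 := h2 (i + e) (by rw [mul_comm, D.coeff_mul_ρ r he, if_pos (Nat.le_add_left e i), Nat.add_sub_cancel]; exact hi')
    rwa [Nat.cast_add] at h3

include hh hh0 in
theorem gorenstein_atPrime_iff [IsDomain R] [D.m.IsPrime] :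
    LocCoh.IsGorensteinLocalRing (Localization.AtPrime D.m) ↔ W4c6gradedringsgw.IsSymmetric D.H := by
  haveI := D.isLocalRing_quotient h hh hh0
  rw [isSymmetric_iff D.h0 D.hadd D.hcof D.h1 hh hh0, ← D.gorenstein_quotient_iff h hh hh0]
  let A := Localization.AtPrime D.m
  let q := Ideal.Quotient.mk (D.J h)
  have hunit : ∀ y : D.m.primeCompl, IsUnit (q y) := fun y => by
    refine IsLocalRing.notMem_maximalIdeal.mp ?_
    rw [D.mem_maximalIdeal_quotient h hh hh0]
    exact y.2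
  let σ : A →+* R ⧸ D.J h := IsLocalization.lift hunit
  have hσ : ∀ r, σ (algebraMap R A r) = q r := IsLocalization.lift_eq hunit
  have hσs : Function.Surjective σ := fun x => by
    obtain ⟨r, rfl⟩ := Ideal.Quotient.mk_surjective x
    exact ⟨_, hσ r⟩
  have hσk : RingHom.ker σ = (D.J h).map (algebraMap R A) := by
    refine le_antisymm (fun x hx => ?_) (Ideal.map_le_iff_le_comap.mpr fun r hr => ?_)
    · obtain ⟨r, s, rfl⟩ := IsLocalization.exists_mk'_eq D.m.primeCompl x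
      rw [RingHom.mem_ker, IsLocalization.lift_mk'] at hx
      rw [IsLocalization.mk'_mem_map_algebraMap_iff]
      refine ⟨1, one_mem _, ?_⟩
      rw [one_mul, ← Ideal.Quotient.eq_zero_iff_mem]
      simpa using hx
    · rw [Ideal.mem_comap, RingHom.mem_ker, hσ, Ideal.Quotient.eq_zero_iff_mem]
      exact hr
  haveI : IsNoetherianRing A := IsLocalization.isNoetherianRing D.m.primeCompl A inferInstance
  let P : Ideal A := Ideal.span {algebraMap R A D.t}
  have htA : algebraMap R A D.t ∈ maximalIdeal A := by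
    rw [IsLocalization.AtPrime.to_map_mem_maximal_iff A D.m]
    exact D.t_mem_m
  have hregA : IsSMulRegular A (algebraMap R A D.t) := by
    haveI : IsDomain A := IsLocalization.isDomain_localization D.m.primeCompl_le_nonZeroDivisors
    exact IsSMulRegular.of_ne_zero fun h0 => D.ht
      ((map_eq_zero_iff _ (IsLocalization.injective A D.m.primeCompl_le_nonZeroDivisors)).mp h0)
  have hPne : P ≠ ⊤ := by
    rw [Ne, Ideal.span_singleton_eq_top]
    exact htA
  haveI : Nontrivial (A ⧸ P) := Ideal.Quotient.nontrivial_iff.mpr hPne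
  haveI : IsLocalRing (A ⧸ P) := IsLocalRing.of_surjective' (Ideal.Quotient.mk P) Ideal.Quotient.mk_surjective
  have hPle : P ≤ RingHom.ker σ := by
    rw [Ideal.span_le, Set.singleton_subset_iff, SetLike.mem_coe, hσk]
    exact Ideal.mem_map_of_mem _ (Ideal.subset_span (Set.mem_insert _ _))
  let σ₂ : A ⧸ P →+* R ⧸ D.J h := Ideal.Quotient.lift P σ fun a ha => hPle ha
  have hσ₂s : Function.Surjective σ₂ := Ideal.Quotient.lift_surjective_of_surjective P (fun a ha => hPle ha) hσs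
  let u := Ideal.Quotient.mk P (algebraMap R A (D.ρ h))
  have hσ₂k : RingHom.ker σ₂ = Ideal.span {u} := by
    rw [show σ₂ = Ideal.Quotient.lift P σ (fun a ha => hPle ha) from rfl, Ideal.ker_quotient_lift, hσk,
      Ideal.map_span, Ideal.map_span, Set.image_pair, Set.image_pair,
      show Ideal.Quotient.mk P (algebraMap R A D.t) = 0 from
        Ideal.Quotient.eq_zero_iff_mem.mpr (Ideal.mem_span_singleton_self _), Ideal.span_insert_zero]
  have hu : u ∈ maximalIdeal (A ⧸ P) := by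
    rw [IsLocalRing.mem_maximalIdeal, mem_nonunits_iff]
    intro hu
    obtain ⟨a, ha⟩ := hu.exists_right_inv
    obtain ⟨a, rfl⟩ := Ideal.Quotient.mk_surjective a
    have h4 := congrArg σ₂ ha
    have h0 : σ₂ u = 0 := by
      show σ (algebraMap R A (D.ρ h)) = 0
      rw [hσ]
      exact Ideal.Quotient.eq_zero_iff_mem.mpr (Ideal.subset_span (Set.mem_insert_of_mem D.t rfl))
    rw [map_mul, map_one, h0, zero_mul] at h4
    exact zero_ne_one h4
  have hureg : IsSMulRegular (A ⧸ P) u := by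
    have hP' : (Ideal.span {D.t} : Ideal R).IsPrime := D.hker ▸ RingHom.ker_isPrime _
    have hdisj : Disjoint (D.m.primeCompl : Set R) (Ideal.span {D.t} : Ideal R) :=
      Set.disjoint_left.mpr fun x hx hx' => hx ((Ideal.span_singleton_le_iff_mem _).mpr D.t_mem_m hx')
    have hPmap : P = (Ideal.span {D.t} : Ideal R).map (algebraMap R A) := by
      rw [Ideal.map_span, Set.image_singleton]
    haveI : P.IsPrime := hPmap ▸ IsLocalization.isPrime_of_isPrime_disjoint D.m.primeCompl A _ hP' hdisj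
    refine fun a b hab => mul_left_cancel₀ (fun h0 => ?_) hab
    rw [Ideal.Quotient.eq_zero_iff_mem, hPmap] at h0
    have h5 : D.ρ h ∈ (Ideal.span {D.t} : Ideal R) := by
      rw [← IsLocalization.comap_map_of_isPrime_disjoint D.m.primeCompl A hP' hdisj]
      exact h0
    rw [← D.hker, RingHom.mem_ker, D.ψ_ρ hh] at h5
    exact pow_ne_zero h X_ne_zero h5
  rw [Groth.Agent.LC.gorenstein_iff_of_surjective (Ideal.Quotient.mk P) Ideal.Quotient.mk_surjective htA hregA
      Ideal.mk_ker,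
    Groth.Agent.LC.gorenstein_iff_of_surjective σ₂ hσ₂s hu hureg hσ₂k]

end Deform

end Groth.Agent.MiscTwoH99.GorSect
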