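import Groth.Agent.MiscTwoH99.GorSect.Ring
import Groth.Agent.GrLib8.StarGorConv
import Groth.Agent.GrLib8.StarField

/-!
# The section ring of a point is Gorenstein exactly for a symmetric Weierstrass semigroup
-/

set_option autoImplicit false

universe u

open FunFld Polynomial W4c6gradedringsgw
open Groth.Agent.FFLib Groth.Agent.GrSect6

namespace Groth.Agent.MiscTwoH99.GorSect

theorem gorenstein_congr {R : Type u} [CommRing R] {I J : Ideal R} [I.IsPrime] [J.IsPrime] (e : I = J)
    (h : LocCoh.IsGorensteinLocalRing (Localization.AtPrime I)) :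
    LocCoh.IsGorensteinLocalRing (Localization.AtPrime J) := by
  subst e
  exact h

variable {k K : Type u} [Field k] [Field K] [Algebra k K] [IsAlgClosed k] {P : Place k K}
  (hK : IsFunctionField k K)

include hK in
theorem main (hg : 1 ≤ genus k K) :
    LocCoh.IsGorensteinRing (Sect P) ↔ IsSymmetric (poleOrders P) := by
  classical
  letI : GradedRing (piece P) := grading P
  haveI : IsNoetherianRing (Sect P) :=
    haveI := finiteType (P := P) hK
    Algebra.FiniteType.isNoetherianRing k _
  let D := deform hK hg (P := P)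
  haveI := D.isMaximal_m
  haveI : D.m.IsPrime := D.isMaximal_m.isPrime
  obtain ⟨c, hc⟩ := D.hcof
  have hat := D.gorenstein_atPrime_iff (c + 1) (hc _ (Nat.le_succ c)) (Nat.succ_ne_zero c)
  refine ⟨fun hG => hat.mp (LocCoh.IsGorensteinRing.isGorensteinLocalRing_localization D.m), fun hsym => ?_⟩
  have hpos : ∀ n : ℤ, n < 0 → piece P n = ⊥ := fun n hn => (AddSubgroup.eq_bot_iff_forall _).mpr fun p hp =>
    Subtype.ext (Polynomial.ext fun i => hp i (by omega))
  have h0 : IsField (GrLC.deg0 (piece P)) := by
    refine ⟨⟨0, 1, fun h => zero_ne_one (congrArg Subtype.val h)⟩, mul_comm, fun {x} hx => ?_⟩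
    have hx0 : ((x : Sect P) : K[X]).coeff 0 ∈ L (0 : Divisor k K) := by
      simpa using coeff_mem (x : Sect P) 0
    obtain ⟨c, hc⟩ := exists_eq_algebraMap hK (fun hh => hh (L_zero_le_algebraic hK.1 hx0))
    have hxc : (x : Sect P) = algebraMap k (Sect P) c := Subtype.ext (Polynomial.ext fun i => by
      show _ = (algebraMap k K[X] c).coeff i
      rw [Polynomial.algebraMap_apply, coeff_C]
      split_ifs with hi
      · rw [hi, hc]
      · exact x.2 i (by simpa using hi))
    have hc0 : c ≠ 0 := fun h => hx (Subtype.ext (by rw [hxc, h, map_zero]; rfl))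
    refine ⟨⟨algebraMap k (Sect P) c⁻¹, fun i hi => ?_⟩, Subtype.ext ?_⟩
    · show (algebraMap k K[X] c⁻¹).coeff i = 0
      rw [Polynomial.algebraMap_apply, coeff_C, if_neg (by simpa using hi)]
    · show (x : Sect P) * algebraMap k (Sect P) c⁻¹ = 1
      rw [hxc, ← map_mul, mul_inv_cancel₀ hc0, map_one]
  have hm : D.m = (GrSyz.irrel (piece P)).toIdeal := by
    refine le_antisymm (fun p hp => ?_) (Ideal.span_le.mpr fun r ⟨n, hn, hr⟩ => ?_)
    · rw [← sum_monom p]
      refine Ideal.sum_mem _ fun n hn => Ideal.subset_span ⟨(n : ℤ), ?_, monom_mem_piece n _ _⟩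
      by_contra h
      have : n = 0 := by omega
      subst this
      exact (mem_support_iff.mp hn) ((mem_deform_m hK hg p).mp hp)
    · exact (mem_deform_m hK hg r).mpr (hr 0 (by omega))
  haveI : (GrSyz.irrel (piece P)).toIdeal.IsPrime := hm ▸ D.isMaximal_m.isPrime
  refine Groth.Agent.GrLib8.StarGor.gorensteinRing_of_atStarMax
    (Groth.Agent.GrLib8.isStarLocal_irrel hpos h0) ?_
  exact gorenstein_congr hm (hat.mpr hsym)

end Groth.Agent.MiscTwoH99.GorSect
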