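import Groth.Agent.GrSect6.Basic
import Groth.Agent.FFLib.RR
import Groth.Agent.MiscTwoH99.GorSect.Criterion
import Mathlib.RingTheory.FiniteType

/-!
# The section ring of a point: deformation data, finite generation and grading
-/

set_option autoImplicit false

universe u

open FunFld WithZero Polynomial W4c6gradedringsgw DirectSum
open Groth.Agent.FFLib Groth.Agent.GrSect6

namespace Groth.Agent.MiscTwoH99.GorSect

variable {k K : Type u} [Field k] [Field K] [Algebra k K] (P : Place k K)

/-- The section ring. -/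
noncomputable abbrev Sect : Subalgebra k K[X] := sectRing (Finsupp.single P 1 : Divisor k K)

/-- The graded pieces. -/
def piece (n : ℤ) : AddSubgroup (Sect P) where
  carrier := {p | ∀ i : ℕ, (i : ℤ) ≠ n → (p : K[X]).coeff i = 0}
  add_mem' {p q} hp hq i hi := by simp [hp i hi, hq i hi]
  zero_mem' i _ := by simp
  neg_mem' {p} hp i hi := by simp [hp i hi]

variable {P}

theorem mem_piece {n : ℤ} {p : Sect P} : p ∈ piece P n ↔ ∀ i : ℕ, (i : ℤ) ≠ n → (p : K[X]).coeff i = 0 := Iff.rfl

theorem coeff_mem (p : Sect P) (n : ℕ) : (p : K[X]).coeff n ∈ L (Finsupp.single P (n : ℤ)) :=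
  (GrSect6.mem_sectRing P).mp p.2 n

theorem monom_mem_piece (n : ℕ) (x : K) (hx : x ∈ L (Finsupp.single P (n : ℤ))) :
    monom n x hx ∈ piece P (n : ℤ) := fun i hi => by
  show (monomial n x).coeff i = 0
  rw [coeff_monomial, if_neg fun h => hi (by rw [h])]

theorem sum_monom (p : Sect P) :
    (∑ n ∈ (p : K[X]).support, monom n ((p : K[X]).coeff n) (coeff_mem p n)) = p :=
  Subtype.ext ((AddSubmonoidClass.coe_finsetSum _ _).trans (p : K[X]).as_sum_support.symm)

instance gradedMonoid : SetLike.GradedMonoid (piece P) where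
  one_mem i hi := by
    show (1 : K[X]).coeff i = 0
    rw [coeff_one, if_neg (by simpa using hi)]
  mul_mem a b p q hp hq i hi := by
    show ((p : K[X]) * (q : K[X])).coeff i = 0
    rw [coeff_mul]
    refine Finset.sum_eq_zero fun x hx => ?_
    rw [Finset.HasAntidiagonal.mem_antidiagonal] at hx
    by_cases h : (x.1 : ℤ) = a
    · rw [hq x.2 (by omega), mul_zero]
    · rw [hp x.1 h, zero_mul]

theorem coe_coeff (x : ⨁ n, piece P n) (i : ℕ) :
    ((DirectSum.coeAddMonoidHom (piece P) x : Sect P) : K[X]).coeff i = ((x (i : ℤ) : Sect P) : K[X]).coeff i := by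
  classical
  induction x using DirectSum.induction_on with
  | zero => simp
  | of n p =>
    rw [DirectSum.coeAddMonoidHom_of]
    by_cases h : n = (i : ℤ)
    · subst h
      rw [DirectSum.of_eq_same]
    · rw [DirectSum.of_eq_of_ne _ _ _ (Ne.symm h)]
      simp [p.2 i (Ne.symm h)]
  | add a b ha hb => simp [ha, hb]

theorem isInternal_piece : DirectSum.IsInternal (piece P) := by
  classical
  refine ⟨(injective_iff_map_eq_zero _).mpr fun x hx => ?_, fun p => ?_⟩
  · refine DFinsupp.ext fun n => Subtype.ext (Subtype.ext (Polynomial.ext fun i => ?_))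
    by_cases h : (i : ℤ) = n
    · subst h
      rw [← coe_coeff, hx]
      rfl
    · rw [(x n).2 i h]
      rfl
  · refine ⟨∑ n ∈ (p : K[X]).support,
      DirectSum.of (fun n => piece P n) (n : ℤ) ⟨monom n _ (coeff_mem p n), monom_mem_piece n _ _⟩, ?_⟩
    simp only [map_sum, DirectSum.coeAddMonoidHom_of]
    exact sum_monom p

variable (P) in
/-- The grading. -/
noncomputable def grading : GradedRing (piece P) :=
  letI := isInternal_piece.chooseDecomposition (ℳ := piece P)
  {}

variable [IsAlgClosed k] (hK : IsFunctionField k K)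

include hK in
theorem deg_single (n : ℤ) : Divisor.deg (Finsupp.single P n : Divisor k K) = n := by
  simp [Divisor.deg, deg_eq_one hK.1 P]

include hK in
theorem poleOrders_cofinite : ∃ c, ∀ n, c ≤ n → n ∈ poleOrders P := by
  refine ⟨2 * genus k K + 1, fun n hn => ?_⟩
  show ell _ = ell _ + 1
  rw [smul_single, smul_single]
  have h1 := ell_of_deg_gt hK (D := Finsupp.single P (n : ℤ)) (by rw [deg_single hK]; omega)
  have h2 := ell_of_deg_gt hK (D := Finsupp.single P ((n : ℤ) - 1)) (by rw [deg_single hK]; omega)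
  rw [deg_single hK] at h1 h2
  omega

include hK in
theorem one_notMem_poleOrders (hg : 1 ≤ genus k K) : 1 ∉ poleOrders P := by
  rw [GrSect6.mem_poleOrders_iff hK le_rfl, not_not]
  refine le_antisymm (fun x hx => ?_) (L_mono (Finsupp.single_le_single.mpr (by norm_num)))
  have h := L_one hK hg (x := x) hx
  simpa using h

include hK in
theorem psi_monom (n : ℕ) (x : K) (hx : x ∈ L (Finsupp.single P (n : ℤ))) :
    psi P hK (monom n x hx) = monomial n ((psi P hK (monom n x hx)).coeff n) := by
  refine Polynomial.ext fun i => ?_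
  by_cases h : n = i
  · subst h
    rw [coeff_monomial, if_pos rfl]
  · rw [coeff_monomial, if_neg h, psi_coeff_eq_zero]
    show (monomial n x).coeff i ∈ _
    rw [coeff_monomial, if_neg h]
    exact zero_mem _

include hK in
theorem exists_monom {n : ℕ} (hn : n ∈ poleOrders P) :
    ∃ (x : K) (hx : x ∈ L (Finsupp.single P (n : ℤ))), psi P hK (monom n x hx) = monomial n (1 : k) := by
  obtain ⟨p, hp, -⟩ := exists_psi_eq hK hn 1
  refine ⟨_, coeff_mem p n, ?_⟩
  rw [psi_monom hK]
  congr 1
  rw [psi_coeff]
  have h : (scale P (monom n _ (coeff_mem p n))).coeff n = (scale P p).coeff n := Subtype.ext (by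
    rw [coe_scale_coeff, coe_scale_coeff]
    show (monomial n _).coeff n * _ = _
    rw [coeff_monomial, if_pos rfl])
  rw [h, ← psi_coeff, hp, coeff_monomial, if_pos rfl]

variable (P) in
/-- The parameter of degree one. -/
noncomputable def tt : Sect P :=
  monom 1 1 (fun Q => by
    rw [map_one, ← exp_zero, exp_le_exp]
    by_cases h : P = Q <;> simp [Finsupp.single_apply, h])

omit [IsAlgClosed k] in
theorem coe_tt : ((tt P : Sect P) : K[X]) = C (1 : K) * X := by
  simp [tt, monom, monomial_one_one_eq_X]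

include hK in
theorem exists_monom_mem (S : Subalgebra k (Sect P)) {c : ℕ} (hc : ∀ n, c ≤ n → n ∈ poleOrders P)
    (hsmall : ∀ n, n < 2 * c + 2 → n ∈ poleOrders P → ∃ (y : K) (hy : y ∈ L (Finsupp.single P (n : ℤ))),
      monom n y hy ∈ S ∧ psi P hK (monom n y hy) = monomial n (1 : k))
    (n : ℕ) (hn : n ∈ poleOrders P) : ∃ (y : K) (hy : y ∈ L (Finsupp.single P (n : ℤ))),
      monom n y hy ∈ S ∧ psi P hK (monom n y hy) = monomial n (1 : k) := by
  induction n using Nat.strong_induction_on with
  | _ n ih =>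
    by_cases hlt : n < 2 * c + 2
    · exact hsmall n hlt hn
    obtain ⟨a, ha, haS, haψ⟩ := ih (c + 1) (by omega) (hc _ (by omega))
    obtain ⟨b, hb, hbS, hbψ⟩ := ih (n - (c + 1)) (by omega) (hc _ (by omega))
    have hab : a * b ∈ L (Finsupp.single P (n : ℤ)) := by
      have h := W4c6gradedringsgw.mul_mem_L ha hb
      rwa [← Finsupp.single_add, show ((c + 1 : ℕ) : ℤ) + ((n - (c + 1) : ℕ) : ℤ) = n by omega] at h
    have heq : monom n (a * b) hab = monom (c + 1) a ha * monom (n - (c + 1)) b hb := Subtype.ext (by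
      show monomial n (a * b) = monomial (c + 1) a * monomial (n - (c + 1)) b
      rw [monomial_mul_monomial, show c + 1 + (n - (c + 1)) = n by omega])
    refine ⟨a * b, hab, ?_, ?_⟩
    · rw [heq]
      exact S.mul_mem haS hbS
    · rw [heq, map_mul, haψ, hbψ, monomial_mul_monomial, show c + 1 + (n - (c + 1)) = n by omega, mul_one]

include hK in
theorem monom_mem_of_coeff (S : Subalgebra k (Sect P)) (htt : tt P ∈ S) {n : ℕ}
    (ih : ∀ m < n, ∀ (a : K) (ha : a ∈ L (Finsupp.single P (m : ℤ))), monom m a ha ∈ S)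
    (b : K) (hb : b ∈ L (Finsupp.single P (n : ℤ))) (h0 : (psi P hK (monom n b hb)).coeff n = 0) :
    monom n b hb ∈ S := by
  rw [psi_coeff_eq_zero] at h0
  simp only [monom, coeff_monomial, if_pos] at h0
  rcases Nat.eq_zero_or_pos n with rfl | hpos
  · rw [show monom 0 b hb = 0 from Subtype.ext (by
      simp [monom, eq_zero_of_mem_L_neg_one hK (x := b) (by simpa using h0)])]
    exact S.zero_mem
  · have hb' : b ∈ L (Finsupp.single P ((n - 1 : ℕ) : ℤ)) := by
      rwa [Nat.cast_sub (show 1 ≤ n by omega), Nat.cast_one]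
    rw [show monom n b hb = tt P * monom (n - 1) b hb' from Subtype.ext (by
      show monomial n b = monomial 1 (1 : K) * monomial (n - 1) b
      rw [monomial_mul_monomial, one_mul, show 1 + (n - 1) = n by omega])]
    exact S.mul_mem htt (ih (n - 1) (by omega) b hb')

include hK in
theorem monom_mem (S : Subalgebra k (Sect P)) (htt : tt P ∈ S)
    (hy : ∀ n ∈ poleOrders P, ∃ (y : K) (hy : y ∈ L (Finsupp.single P (n : ℤ))),
      monom n y hy ∈ S ∧ psi P hK (monom n y hy) = monomial n (1 : k))
    (n : ℕ) (a : K) (ha : a ∈ L (Finsupp.single P (n : ℤ))) : monom n a ha ∈ S := by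
  induction n using Nat.strong_induction_on generalizing a with
  | _ n ih =>
    by_cases h0 : (psi P hK (monom n a ha)).coeff n = 0
    · exact monom_mem_of_coeff hK S htt ih a ha h0
    have hn : n ∈ poleOrders P := by
      by_contra hn
      exact h0 (psi_coeff_eq_zero_of_not_mem hK _ hn)
    obtain ⟨y, hy', hyS, hyψ⟩ := hy n hn
    set α := (psi P hK (monom n a ha)).coeff n with hα
    have hd : a - α • y ∈ L (Finsupp.single P (n : ℤ)) := sub_mem ha (Submodule.smul_mem _ α hy')
    have heq : monom n a ha = monom n (a - α • y) hd + α • monom n y hy' := Subtype.ext (by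
      show monomial n a = monomial n (a - α • y) + α • monomial n y
      rw [smul_monomial, ← map_add, sub_add_cancel])
    have h2 : (psi P hK (monom n (a - α • y) hd)).coeff n = 0 := by
      have h := congrArg (fun q => (psi P hK q).coeff n) heq
      simp only [map_add, map_smul, coeff_add, coeff_smul, hyψ, coeff_monomial, if_pos, smul_eq_mul, mul_one,
        ← hα] at h
      exact (right_eq_add.mp h)
    rw [heq]
    exact S.add_mem (monom_mem_of_coeff hK S htt ih _ hd h2) (S.smul_mem hyS α)

include hK in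
theorem finiteType : Algebra.FiniteType k (Sect P) := by
  classical
  obtain ⟨c, hc⟩ := poleOrders_cofinite (P := P) hK
  choose x hx hψ using fun n (hn : n ∈ poleOrders P) => exists_monom hK hn
  let g : ℕ → Sect P := fun n => if hn : n ∈ poleOrders P then monom n (x n hn) (hx n hn) else 0
  obtain ⟨G, hG⟩ : ∃ G : Finset (Sect P), tt P ∈ G ∧ ∀ n, n < 2 * c + 2 → g n ∈ G :=
    ⟨insert (tt P) ((Finset.range (2 * c + 2)).image g), Finset.mem_insert_self _ _, fun n hn =>
      Finset.mem_insert_of_mem (Finset.mem_image_of_mem g (Finset.mem_range.mpr hn))⟩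
  refine ⟨⟨G, eq_top_iff.mpr fun p _ => ?_⟩⟩
  have hS : ∀ q ∈ G, q ∈ Algebra.adjoin k (G : Set (Sect P)) := fun q hq => Algebra.subset_adjoin hq
  have hy := exists_monom_mem hK (Algebra.adjoin k (G : Set (Sect P))) hc fun n hn hnH => by
    refine ⟨x n hnH, hx n hnH, ?_, hψ n hnH⟩
    have := hS _ (hG.2 n hn)
    rwa [show g n = monom n (x n hnH) (hx n hnH) from dif_pos hnH] at this
  rw [← sum_monom p]
  exact Subalgebra.sum_mem _ fun n _ => monom_mem hK _ (hS _ hG.1) hy _ _ _

/-- The deformation data. -/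
noncomputable def deform (hg : 1 ≤ genus k K) : Deform k (Sect P) where
  ψ := psi P hK
  H := poleOrders P
  h0 := zero_mem_poleOrders hK
  hadd a ha b hb := by
    rw [← closure_poleOrders hK, SetLike.mem_coe] at ha hb ⊢
    exact add_mem ha hb
  hcof := poleOrders_cofinite hK
  h1 := one_notMem_poleOrders hK hg
  t := tt P
  ht h := by
    have h1 := congrArg (fun q : Sect P => (q : K[X]).coeff 1) h
    simp [coe_tt] at h1
  hker := ker_psi hK (tt P) hg one_ne_zero coe_tt
  hsupp r n hn := by
    by_contra h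
    exact hn (psi_coeff_eq_zero_of_not_mem hK r h)
  hlift n hn := by
    obtain ⟨p, hp, -⟩ := exists_psi_eq hK hn 1
    exact ⟨p, by rw [hp, monomial_one_right_eq_X_pow]⟩

include hK in
theorem mem_deform_m (hg : 1 ≤ genus k K) (p : Sect P) :
    p ∈ (deform hK hg).m ↔ (p : K[X]).coeff 0 = 0 := by
  rw [Deform.mem_m]
  show (psi P hK p).coeff 0 = 0 ↔ _
  rw [psi_coeff_eq_zero]
  refine ⟨fun h => eq_zero_of_mem_L_neg_one hK (by simpa using h), fun h => ?_⟩
  rw [h]
  exact zero_mem _

end Groth.Agent.MiscTwoH99.GorSect
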